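import Groth.Agent.GeomLoci.SectNhd
import Groth.Agent.GeomLoci.ConnFlat
import Groth.Agent.GeomLoci.Constructible
import Groth.Agent.GeomField.ConnComp
import Groth.Agent.DescLib.Reduced
import Groth.Agent.LimSm.Model
import Groth.Agent.LimSm.Descend
import Groth.Agent.S1324

/-! The components of the fibres of a smooth morphism through a point form an open set. -/

set_option autoImplicit false
set_option linter.style.haveILetI false
set_option backward.isDefEq.respectTransparency false
set_option backward.isDefEq.respectTransparency.types false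

universe u

open AlgebraicGeometry CategoryTheory CategoryTheory.Limits Topology

namespace Groth.Agent.H4SmComp

/-- the section components of the first projection with its diagonal -/
def Comp {X S : Scheme.{u}} (f : X ⟶ S) : Set ↥(pullback f f) :=
  MoreMor.sectionComponents (pullback.snd f f) (pullback.diagonal f)

theorem isGeomReducedAt_of_smooth {k : Type u} [Field k] {F : Scheme.{u}} (p : F ⟶ Spec (CommRingCat.of k))
    [Smooth p] (x : F) : FBase.IsGeomReducedAt p x := by
  intro K _ _ x' _
  let sn : FBase.bc p K ⟶ Spec (CommRingCat.of K) :=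
    pullback.snd p (Spec.map (CommRingCat.ofHom (algebraMap k K)))
  haveI : Smooth sn := MorphismProperty.pullback_snd _ _ inferInstance
  haveI : IsReduced (FBase.bc p K) := DescLib.isReduced_of_smooth_of_isReduced sn
  infer_instance

theorem isOpen_sectionComponents {X Y : Scheme.{u}} [IsLocallyNoetherian Y] (f : X ⟶ Y) [Smooth f]
    (s : Y ⟶ X) (hs : s ≫ f = 𝟙 Y) : IsOpen (MoreMor.sectionComponents f s) := by
  rw [← interior_eq_iff_isOpen]
  refine interior_subset.antisymm fun x hx => ?_
  refine GeomLoci.subset_interior_sectionComponents f s hs (y := f x) (fun v _ => ?_) hx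
  haveI : Smooth (f.fiberToSpecResidueField (f v)) :=
    MorphismProperty.pullback_snd f (Y.fromSpecResidueField (f v)) inferInstance
  exact GeomLoci.goodAt_of f (GeomLoci.isUnivOpenAt_of_flat f v)
    (isGeomReducedAt_of_smooth (f.fiberToSpecResidueField (f v)) (f.asFiber v))

/-- `Comp` commutes with base change. -/
theorem comp_preimage {X S X' S' : Scheme.{u}} {f : X ⟶ S} {f' : X' ⟶ S'} {a : X' ⟶ X} {b : S' ⟶ S}
    (hsq : IsPullback a f' f b) :
    ∃ q : pullback f' f' ⟶ pullback f f, IsPullback q (pullback.snd f' f') (pullback.snd f f) a ∧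
      Comp f' = q ⁻¹' Comp f := by
  let q : pullback f' f' ⟶ pullback f f :=
    pullback.lift (pullback.fst f' f' ≫ a) (pullback.snd f' f' ≫ a) (by
      rw [Category.assoc, Category.assoc, hsq.w, pullback.condition_assoc])
  have hq : IsPullback q (pullback.snd f' f') (pullback.snd f f) a := by
    refine IsPullback.of_right ?_ (pullback.lift_snd _ _ _) (IsPullback.of_hasPullback f f)
    rw [pullback.lift_fst, hsq.w]
    exact (IsPullback.of_hasPullback f' f').paste_horiz hsq
  refine ⟨q, hq, S1324.result (pullback.snd f f) (pullback.diagonal f) (pullback.diagonal_snd f)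
    (pullback.snd f' f') q a hq (pullback.diagonal f') (pullback.diagonal_snd f') ?_⟩
  apply pullback.hom_ext
  · simp [q]
  · simp [q]

theorem isOpen_comp {X S : Scheme.{u}} (f : X ⟶ S) [Smooth f] [QuasiCompact f] [QuasiSeparated f] :
    IsOpen (Comp f) := by
  refine isOpen_iff_forall_mem_open.2 fun z hz => ?_
  obtain ⟨_, ⟨V, hV, rfl⟩, hzV, -⟩ :=
    S.isBasis_affineOpens.exists_subset_of_mem_open (Set.mem_univ (f (pullback.snd f f z))) isOpen_univ
  haveI : IsAffine (V : Scheme.{u}) := hV
  have hc := (isPullback_morphismRestrict f V).flip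
  obtain ⟨q, hq, hpre⟩ := comp_preimage hc
  haveI : IsOpenImmersion q := MorphismProperty.of_isPullback hq.flip inferInstance
  suffices hopen : IsOpen (Comp (f ∣_ V)) by
    have hzr : z ∈ Set.range q := by
      obtain ⟨w, hw, -⟩ := Scheme.exists_preimage_of_isPullback hq z ⟨_, hzV⟩ rfl
      exact ⟨w, hw⟩
    refine ⟨q '' Comp (f ∣_ V), ?_, q.isOpenEmbedding.isOpenMap _ hopen, ?_⟩
    · rw [hpre, Set.image_preimage_eq_inter_range]
      exact Set.inter_subset_left
    · rw [hpre, Set.image_preimage_eq_inter_range]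
      exact ⟨hz, hzr⟩
  let g := f ∣_ V ≫ (V : Scheme.{u}).isoSpec.hom
  haveI : QuasiCompact (f ∣_ V) := MorphismProperty.of_isPullback hc inferInstance
  haveI : QuasiSeparated (f ∣_ V) := MorphismProperty.of_isPullback hc inferInstance
  haveI : Smooth (f ∣_ V) := MorphismProperty.of_isPullback hc inferInstance
  obtain ⟨A₀, hA₀, X₀, f₀, gX, hsm, -, _, hqc, hqs, hX⟩ :=
    LimSm.exists_model_over_fg LimSm.core_smooth LimSm.core_smooth (fun _ h => h) (fun _ h => h)
      Γ((V : Scheme.{u}), ⊤) g (show Smooth g from inferInstance) (show Smooth g from inferInstance)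
  haveI := hsm
  haveI : Algebra.FiniteType ℤ ↥A₀ := (Subalgebra.fg_iff_finiteType A₀).1 hA₀
  haveI : IsNoetherianRing ↥A₀ := Algebra.FiniteType.isNoetherianRing ℤ _
  haveI : IsLocallyNoetherian X₀ := LocallyOfFiniteType.isLocallyNoetherian f₀
  have hX' : IsPullback gX (f ∣_ V) f₀ ((V : Scheme.{u}).isoSpec.hom ≫
      Spec.map (CommRingCat.ofHom (algebraMap (↥A₀) Γ((V : Scheme.{u}), ⊤)))) :=
    hX.of_iso (Iso.refl _) (Iso.refl _) (V : Scheme.{u}).isoSpec.symm (Iso.refl _) (by simp) (by simp [g])
      (by simp) (by simp)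
  obtain ⟨q₀, hq₀, hpre₀⟩ := comp_preimage hX'
  rw [hpre₀]
  haveI : Smooth (pullback.snd f₀ f₀) := MorphismProperty.pullback_snd _ _ inferInstance
  exact (isOpen_sectionComponents (pullback.snd f₀ f₀) (pullback.diagonal f₀)
    (pullback.diagonal_snd f₀)).preimage q₀.continuous

theorem subset_image_fibre {S S' X : Scheme.{u}} (f : X ⟶ S) (g : S' ⟶ S) (e : S' ⟶ X) (he : e ≫ f = g)
    (s' : S') :
    connectedComponentIn (f.base ⁻¹' {g s'}) (e s') ⊆
      pullback.fst f g '' MoreMor.sectionComponents (pullback.snd f g)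
        (pullback.lift e (𝟙 S') (he.trans (Category.id_comp g).symm)) := by
  let σ : S' ⟶ pullback f g := pullback.lift e (𝟙 S') (he.trans (Category.id_comp g).symm)
  let F := f.fiber (g s')
  letI : F.Over (Spec (CommRingCat.of (S.residueField (g s')))) := ⟨f.fiberToSpecResidueField (g s')⟩
  letI : Algebra (S.residueField (g s')) (S'.residueField s') := (g.residueFieldMap s').hom.toAlgebra
  let B := Curv2.bc (S.residueField (g s')) F (S'.residueField s')
  let ρ : Spec (S'.residueField s') ⟶ Spec (S.residueField (g s')) := Spec.map (g.residueFieldMap s')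
  let p₁ : B ⟶ F := Curv2.bcFst (S.residueField (g s')) F (S'.residueField s')
  let p₂ : B ⟶ Spec (S'.residueField s') := Curv2.bcSnd (S.residueField (g s')) F (S'.residueField s')
  have hp : p₁ ≫ f.fiberToSpecResidueField (g s') = p₂ ≫ ρ := pullback.condition
  have hρ : ρ ≫ S.fromSpecResidueField (g s') = S'.fromSpecResidueField s' ≫ g :=
    g.SpecMap_residueFieldMap_fromSpecResidueField s'
  let m : B ⟶ pullback f g := pullback.lift (p₁ ≫ f.fiberι (g s')) (p₂ ≫ S'.fromSpecResidueField s') (by
    rw [Category.assoc, Category.assoc, Scheme.Hom.fiber_fac, reassoc_of% hp, hρ])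
  let pt : Spec (S'.residueField s') ⟶ B :=
    pullback.lift (pullback.lift (S'.fromSpecResidueField s' ≫ e) ρ (by rw [Category.assoc, he, hρ]))
      (𝟙 _) (by
        show pullback.lift _ _ _ ≫ pullback.snd f (S.fromSpecResidueField (g s')) = _
        rw [pullback.lift_snd]
        exact (Category.id_comp _).symm)
  have hpt : pt ≫ m = S'.fromSpecResidueField s' ≫ σ := by
    apply pullback.hom_ext
    · simp [pt, m, σ, p₁, Scheme.Hom.fiberι]
    · simp [pt, m, σ, p₂]
      exact Category.id_comp _
  let z : B := pt (IsLocalRing.closedPoint (S'.residueField s'))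
  have hz : m z = σ s' := by
    have := congr($(hpt) (IsLocalRing.closedPoint (S'.residueField s')))
    rw [Scheme.Hom.comp_apply, Scheme.Hom.comp_apply, Scheme.fromSpecResidueField_apply] at this
    exact this
  have hms : ∀ w : B, pullback.snd f g (m w) = s' := fun w => by
    rw [← Scheme.Hom.comp_apply, pullback.lift_snd, Scheme.Hom.comp_apply]
    exact Scheme.fromSpecResidueField_apply _ _
  have hC : m '' connectedComponent z ⊆ MoreMor.sectionComponents (pullback.snd f g) σ := by
    rintro _ ⟨w, hw, rfl⟩
    show m w ∈ connectedComponentIn ((pullback.snd f g).base ⁻¹' {pullback.snd f g (m w)})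
      (σ (pullback.snd f g (m w)))
    rw [hms w]
    refine (isPreconnected_connectedComponent.image m m.continuous.continuousOn).subset_connectedComponentIn
      ⟨z, mem_connectedComponent, hz⟩ ?_ ⟨w, hw, rfl⟩
    rintro _ ⟨w', -, rfl⟩
    exact hms w'
  intro y hy
  have hy' : f y = g s' := (connectedComponentIn_subset (f.base ⁻¹' {g s'}) (e s') hy : _)
  have hes : f (e s') = g s' := by rw [← Scheme.Hom.comp_apply, he]
  have hD : y ∈ f.fiberι (g s') '' connectedComponent (p₁ z) := by
    have hx : f.fiberι (g s') (p₁ z) = e s' := by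
      have := congr($(pullback.lift_fst (f := f) (g := g) _ _ (by
        rw [Category.assoc, Category.assoc, Scheme.Hom.fiber_fac,
          reassoc_of% hp, hρ] : (p₁ ≫ f.fiberι (g s')) ≫ f = (p₂ ≫ S'.fromSpecResidueField s') ≫ g)) z)
      rw [Scheme.Hom.comp_apply] at this
      rw [Scheme.Hom.comp_apply] at this
      rw [← this]
      show pullback.fst f g (m z) = e s'
      rw [hz, ← Scheme.Hom.comp_apply, pullback.lift_fst]
    let φ := f.fiberHomeo (g s')
    rw [connectedComponentIn_eq_image (show e s' ∈ f.base ⁻¹' {g s'} from hes)] at hy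
    obtain ⟨y', hy'', rfl⟩ := hy
    have hmem := φ.symm.continuous.image_connectedComponent_subset ⟨e s', hes⟩ ⟨y', hy'', rfl⟩
    have hφz : φ.symm ⟨e s', hes⟩ = p₁ z := by
      rw [Homeomorph.symm_apply_eq]
      exact Subtype.ext hx.symm
    rw [hφz] at hmem
    exact ⟨φ.symm y', hmem, f.fiberι_fiberHomeo_symm _ _⟩
  obtain ⟨d, hd, rfl⟩ := hD
  rw [← GeomField.image_connectedComponent (S'.residueField s') z] at hd
  obtain ⟨w, hw, rfl⟩ := hd
  refine ⟨m w, hC ⟨w, hw, rfl⟩, ?_⟩
  rw [← Scheme.Hom.comp_apply, pullback.lift_fst, Scheme.Hom.comp_apply]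

end Groth.Agent.H4SmComp
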